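import Groth.Prelude.Def_GLin
import Groth.Agent.DynLim.Basic

/-!
# The numerical function of a one-parameter subgroup through coefficients of the orbit
-/

set_option autoImplicit false
universe u

namespace Groth.Agent.LamMu

open LaurentPolynomial TensorProduct

variable {k : Type u} [Field k] {A : Type u} [CommRing A] [Bialgebra k A]
  {ι : Type u} [Fintype ι] [HopfRep.Comod k A (MvPolynomial ι k)] [GLin.IsCoactAlg k A (MvPolynomial ι k)]
  (lam : A →ₐc[k] k[T;T⁻¹]) (v : ι → k)

/-- Coefficients of the coordinates of the orbit. -/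
noncomputable def co (i : ι) (n : ℤ) : k :=
  (GLin.lamOrbit k A lam (GLin.vecPt k ι v) (MvPolynomial.X i)).coeff n

theorem coeff_T_mul (m n : ℤ) (f : k[T;T⁻¹]) : (T m * f).coeff n = f.coeff (n - m) := by
  induction f using LaurentPolynomial.induction_on' with
  | add p q hp hq => simp only [mul_add, AddMonoidAlgebra.coeff_add, Finsupp.add_apply, hp, hq]
  | C_mul_T a r =>
    rw [mul_left_comm, ← LaurentPolynomial.T_add, ← LaurentPolynomial.single_eq_C_mul_T,
      ← LaurentPolynomial.single_eq_C_mul_T, AddMonoidAlgebra.coeff_single, AddMonoidAlgebra.coeff_single,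
      Finsupp.single_apply, Finsupp.single_apply]
    exact if_congr (by omega) rfl rfl

theorem exists_lift_iff (φ : MvPolynomial ι k →ₐ[k] k[T;T⁻¹]) :
    (∃ h : MvPolynomial ι k →ₐ[k] Polynomial k, (Polynomial.toLaurentAlg (R := k)).comp h = φ) ↔
      ∀ i, ∀ n < (0 : ℤ), (φ (MvPolynomial.X i)).coeff n = 0 := by
  constructor
  · rintro ⟨h, rfl⟩ i n hn
    exact DynLim.coeff_toLaurent_neg _ n hn
  · intro hφ
    choose P hP using fun i => DynLim.exists_poly (φ (MvPolynomial.X i)) (hφ i)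
    exact ⟨MvPolynomial.aeval P, MvPolynomial.algHom_ext fun i => by
      rw [AlgHom.comp_apply, MvPolynomial.aeval_X]; exact hP i⟩

theorem aeval_zero_comp_eq_iff (h : MvPolynomial ι k →ₐ[k] Polynomial k) :
    (Polynomial.aeval (0 : k)).comp h = MvPolynomial.aeval (fun _ : ι => (0 : k)) ↔
      ∀ i, ((Polynomial.toLaurentAlg (R := k)).comp h (MvPolynomial.X i)).coeff 0 = 0 := by
  have e : ∀ i, ((Polynomial.toLaurentAlg (R := k)).comp h (MvPolynomial.X i)).coeff 0 =
      (Polynomial.aeval (0 : k)).comp h (MvPolynomial.X i) := fun i => by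
    rw [AlgHom.comp_apply, AlgHom.comp_apply, ← Polynomial.coeff_zero_eq_aeval_zero]
    exact DynLim.coeff_toLaurent_zero _
  constructor
  · intro h0 i; rw [e, h0, MvPolynomial.aeval_X]
  · intro h0; exact MvPolynomial.algHom_ext fun i => by rw [← e, h0, MvPolynomial.aeval_X]

theorem hasLimit_iff : GLin.HasLimit k A lam (GLin.vecPt k ι v) ↔ ∀ i, ∀ n < (0 : ℤ), co lam v i n = 0 :=
  exists_lift_iff _

theorem isLimit_zero_iff : GLin.IsLimit k A lam (GLin.vecPt k ι v) (GLin.vecPt k ι (fun _ => (0 : k))) ↔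
    (∀ i, ∀ n < (0 : ℤ), co lam v i n = 0) ∧ ∀ i, co lam v i 0 = 0 := by
  constructor
  · rintro ⟨h, hh, h0⟩
    refine ⟨(hasLimit_iff lam v).1 ⟨h, hh⟩, fun i => ?_⟩
    have := (aeval_zero_comp_eq_iff h).1 h0 i
    rwa [hh] at this
  · rintro ⟨h1, h2⟩
    obtain ⟨h, hh⟩ := (hasLimit_iff lam v).2 h1
    exact ⟨h, hh, (aeval_zero_comp_eq_iff h).2 fun i => by rw [hh]; exact h2 i⟩

theorem isMu_iff (m : ℤ) : GLin.IsMu k A lam v m ↔
    (∀ i, ∀ n < -m, co lam v i n = 0) ∧ ∃ i, co lam v i (-m) ≠ 0 := by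
  have e : ∀ i n, (GLin.shiftedOrbit k A lam v m (MvPolynomial.X i)).coeff n = co lam v i (n - m) := fun i n => by
    rw [GLin.shiftedOrbit, MvPolynomial.aeval_X, coeff_T_mul]
    rfl
  constructor
  · rintro ⟨h, hh, h0⟩
    refine ⟨fun i n hn => ?_, ?_⟩
    · have h1 := (exists_lift_iff _).1 ⟨h, hh⟩ i (n + m) (by omega)
      rwa [e, add_sub_cancel_right] at h1
    · rw [Ne, aeval_zero_comp_eq_iff, not_forall] at h0
      obtain ⟨i, hi⟩ := h0
      rw [hh, e, zero_sub] at hi
      exact ⟨i, hi⟩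
  · rintro ⟨h1, i, hi⟩
    obtain ⟨h, hh⟩ := (exists_lift_iff (GLin.shiftedOrbit k A lam v m)).2
      fun j n hn => by rw [e]; exact h1 j _ (by omega)
    refine ⟨h, hh, fun h0 => hi ?_⟩
    have := (aeval_zero_comp_eq_iff h).1 h0 i
    rwa [hh, e, zero_sub] at this

theorem exists_co_ne_zero (hv : v ≠ 0) : ∃ i n, co lam v i n ≠ 0 := by
  by_contra hc
  push Not at hc
  refine hv (funext fun i => ?_)
  have h0 : GLin.lamOrbit k A lam (GLin.vecPt k ι v) (MvPolynomial.X i) = 0 :=
    LaurentPolynomial.ext fun n => hc i n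
  have h1 : CoalgebraStruct.counit (R := k) (GLin.orbitHom k A (GLin.vecPt k ι v) (MvPolynomial.X i)) = 0 := by
    rw [← CoalgHomClass.counit_comp_apply lam]
    show CoalgebraStruct.counit (GLin.lamOrbit k A lam (GLin.vecPt k ι v) (MvPolynomial.X i)) = (0 : k)
    rw [h0, map_zero]
  have key : ∀ z : MvPolynomial ι k ⊗[k] A,
      CoalgebraStruct.counit (R := k) (Algebra.TensorProduct.lid k A
        (Algebra.TensorProduct.map (GLin.vecPt k ι v) (AlgHom.id k A) z)) =
      GLin.vecPt k ι v (TensorProduct.rid k (MvPolynomial ι k)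
        ((CoalgebraStruct.counit (R := k) (A := A)).lTensor (MvPolynomial ι k) z)) := by
    intro z
    induction z using TensorProduct.induction_on with
    | zero => simp
    | add p q hp hq => simp only [map_add, hp, hq]
    | tmul p q => simp [mul_comm]
  have h2 := (key _).symm.trans h1
  change GLin.vecPt k ι v (TensorProduct.rid k (MvPolynomial ι k)
    (((CoalgebraStruct.counit (R := k) (A := A)).lTensor (MvPolynomial ι k))
      (HopfRep.Comod.coact (k := k) (A := A) (MvPolynomial.X i : MvPolynomial ι k)))) = 0 at h2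
  rw [← LinearMap.comp_apply, HopfRep.Comod.counit_comp] at h2
  simpa using h2

theorem exists_isMu (hv : v ≠ 0) : ∃ m, GLin.IsMu k A lam v m := by
  classical
  let S : Finset ℤ := Finset.univ.biUnion fun i : ι =>
    (GLin.lamOrbit k A lam (GLin.vecPt k ι v) (MvPolynomial.X i)).coeff.support
  have hS : ∀ i n, co lam v i n ≠ 0 → n ∈ S := fun i n h =>
    Finset.mem_biUnion.2 ⟨i, Finset.mem_univ i, Finsupp.mem_support_iff.2 h⟩
  obtain ⟨i, n, hin⟩ := exists_co_ne_zero lam v hv
  have hne : S.Nonempty := ⟨n, hS i n hin⟩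
  refine ⟨-S.min' hne, (isMu_iff lam v _).2 ⟨fun j l hl => ?_, ?_⟩⟩
  · by_contra h
    have := S.min'_le l (hS j l h)
    omega
  · obtain ⟨j, -, hj⟩ := Finset.mem_biUnion.1 (S.min'_mem hne)
    exact ⟨j, by rw [neg_neg]; exact Finsupp.mem_support_iff.1 hj⟩

theorem isMu_unique {m m' : ℤ} (h : GLin.IsMu k A lam v m) (h' : GLin.IsMu k A lam v m') : m = m' := by
  obtain ⟨h1, i, hi⟩ := (isMu_iff lam v m).1 h
  obtain ⟨h1', i', hi'⟩ := (isMu_iff lam v m').1 h'
  by_contra hne
  rcases lt_or_gt_of_ne hne with hlt | hlt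
  · exact hi' (h1 i' _ (by omega))
  · exact hi (h1' i _ (by omega))

end Groth.Agent.LamMu
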